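import Groth.Agent.ShStabLib.Hom
import Groth.Agent.ShStabLib.Compare
import Groth.Agent.S1575
import Groth.Agent.DevLib.Closed
import Groth.Agent.ProjBundleLib.FTQuot
import Groth.Agent.DeltaBCLib.Components
import Groth.Agent.CurveLib.DegTensor

/-!
# Modules on schemes split along open and closed subsets
-/

set_option autoImplicit false
set_option backward.isDefEq.respectTransparency false
set_option linter.style.haveILetI false
set_option maxHeartbeats 1600000

universe u

open CategoryTheory CategoryTheory.Limits AlgebraicGeometry TopologicalSpace Opposite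
open Groth.Agent.PullbackMod Groth.Agent.DCohLib
open Polynomial StabCat Groth.Agent.ShStabLib Groth.Agent.DevLib Groth.Agent.QCohLib Groth.Agent.HilbLib

noncomputable section

namespace Groth.Agent.CompSplitLib

variable {X : Scheme.{u}}

/-- The part of `M` on `U`. -/
abbrev part (U : X.Opens) (M : X.Modules) : X.Modules := (Scheme.Modules.pushforward U.ι).obj (M.restrict U.ι)

/-- The restriction. -/
def res (U : X.Opens) (M : X.Modules) : M ⟶ part U M := (Scheme.Modules.restrictAdjunction U.ι).unit.app M

/-- Functoriality. -/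
def partMap (U : X.Opens) {M N : X.Modules} (f : M ⟶ N) : part U M ⟶ part U N :=
  (Scheme.Modules.restrictFunctor U.ι ⋙ Scheme.Modules.pushforward U.ι).map f

theorem res_natural (U : X.Opens) {M N : X.Modules} (f : M ⟶ N) : f ≫ res U N = res U M ≫ partMap U f :=
  (Scheme.Modules.restrictAdjunction U.ι).unit.naturality f

theorem bijective_res (U : X.Opens) (M : X.Modules) {y : X} (hy : y ∈ U) :
    Function.Bijective (stalkLin (res U M) y) :=
  S1575.unit_stalk_bijective U.ι M (by rw [Scheme.Opens.opensRange_ι]; exact hy)

variable {U : X.Opens} (hU : IsClosed (U : Set X))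

include hU in
theorem isClosedImmersion_ι : IsClosedImmersion U.ι :=
  .of_isPreimmersion _ (by rw [Scheme.Opens.range_ι]; exact hU)

include hU in
theorem subsingleton_part (M : X.Modules) {y : X} (hy : y ∉ U) : Subsingleton ((part U M).presheaf.stalk y) := by
  haveI := isClosedImmersion_ι hU
  exact subsingleton_stalk_pushforward U.ι _ y (by rw [Scheme.Opens.range_ι]; exact hy)

include hU in
theorem epi_res (M : X.Modules) : Epi (res U M) := (epi_iff_stalk _).2 fun y => by
  by_cases hy : y ∈ U
  · exact (bijective_res U M hy).2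
  · haveI := subsingleton_part hU M hy
    exact fun z => ⟨0, Subsingleton.elim _ _⟩

include hU in
theorem isCoh_part [IsLocallyNoetherian X] {M : X.Modules} (hM : Coh.IsCoh M) : Coh.IsCoh (part U M) := by
  haveI := isClosedImmersion_ι hU
  exact DevLib.isCoh_pushforward_closed U.ι (ProjBundleLib.isCoh_restrict_open hM.1 hM.2 U)

theorem bijective_partMap_of {M N : X.Modules} (f : M ⟶ N) {y : X} (hy : y ∈ U)
    (hf : Function.Bijective (stalkLin f y)) : Function.Bijective (stalkLin (partMap U f) y) := by
  have h : (stalkLin (partMap U f) y) ∘ (stalkLin (res U M) y) = (stalkLin (res U N) y) ∘ (stalkLin f y) := by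
    funext z
    show stalkLin (partMap U f) y (stalkLin (res U M) y z) = stalkLin (res U N) y (stalkLin f y z)
    rw [← LinearMap.comp_apply, ← stalkLin_comp, ← LinearMap.comp_apply, ← stalkLin_comp, res_natural]
  exact (Function.Bijective.of_comp_iff _ (bijective_res U M hy)).1 (h ▸ (bijective_res U N hy).comp hf)

include hU in
theorem isIso_partMap {M N : X.Modules} (f : M ⟶ N) (hf : ∀ y ∈ U, Function.Bijective (stalkLin f y)) :
    IsIso (partMap U f) := (isIso_iff_stalk _).2 fun y => by
  by_cases hy : y ∈ U
  · exact bijective_partMap_of f hy (hf y hy)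
  · haveI := subsingleton_part hU M hy
    haveI := subsingleton_part hU N hy
    exact ⟨fun a b _ => Subsingleton.elim a b, fun z => ⟨0, Subsingleton.elim _ _⟩⟩

include hU in
theorem mono_partMap {M N : X.Modules} (f : M ⟶ N) [Mono f] : Mono (partMap U f) := (mono_iff_stalk _).2 fun y => by
  by_cases hy : y ∈ U
  · intro a b hab
    obtain ⟨a, rfl⟩ := (bijective_res U M hy).2 a
    obtain ⟨b, rfl⟩ := (bijective_res U M hy).2 b
    rw [← LinearMap.comp_apply, ← stalkLin_comp, ← LinearMap.comp_apply, ← stalkLin_comp, ← res_natural,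
      stalkLin_comp, LinearMap.comp_apply, LinearMap.comp_apply] at hab
    exact congrArg _ ((mono_iff_stalk f).1 inferInstance y ((bijective_res U N hy).1 hab))
  · haveI := subsingleton_part hU M hy
    exact fun a b _ => Subsingleton.elim a b

include hU in
theorem exists_section (M : X.Modules) : ∃ s : part U M ⟶ M, Mono s := by
  let W : X.Opens := ⟨(U : Set X)ᶜ, hU.isOpen_compl⟩
  have hW : IsClosed (W : Set X) := U.2.isClosed_compl
  haveI := epi_res hW M
  have hse := ShortComplex.exact_of_f_is_kernel (ShortComplex.mk (kernel.ι (res W M)) (res W M) (kernel.condition _))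
    (kernelIsKernel _)
  let θ := kernel.ι (res W M) ≫ res U M
  haveI : IsIso θ := (isIso_iff_stalk θ).2 fun y => by
    have hk : Function.Injective (stalkLin (kernel.ι (res W M)) y) := (mono_iff_stalk _).1 inferInstance y
    by_cases hy : y ∈ U
    · refine ⟨fun a b hab => ?_, fun z => ?_⟩
      · rw [stalkLin_comp, LinearMap.comp_apply, LinearMap.comp_apply] at hab
        exact hk ((bijective_res U M hy).1 hab)
      · obtain ⟨z, rfl⟩ := (bijective_res U M hy).2 z
        haveI := subsingleton_part hW M (show y ∉ W from fun h => h hy)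
        obtain ⟨w, hw⟩ := (exact_stalkLin (ShortComplex.mk (kernel.ι (res W M)) (res W M) (kernel.condition _)) hse y z).1
          (Subsingleton.elim _ _)
        exact ⟨w, by rw [stalkLin_comp, LinearMap.comp_apply, ← hw]⟩
    · haveI := subsingleton_part hU M hy
      refine ⟨fun a b _ => hk ((bijective_res W M (show y ∈ W from hy)).1 ?_), fun z => ⟨0, Subsingleton.elim _ _⟩⟩
      rw [← LinearMap.comp_apply, ← stalkLin_comp, kernel.condition, ← LinearMap.comp_apply, ← stalkLin_comp,
        kernel.condition, (eq_zero_iff_stalk _).1 rfl y]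
      rfl
  exact ⟨inv θ ≫ kernel.ι (res W M), inferInstance⟩

variable (k : Type u) [Field k] [X.Over (Spec (CommRingCat.of k))] [IsProper (X ↘ Spec (CommRingCat.of k))]
  {L : X.Modules} (hamp : CohB1.IsAmple L) {d : ℕ}

include hamp in
/-- Hilbert polynomials are additive over disjoint open and closed pieces. -/
theorem hp_split {ι : Type*} [DecidableEq ι] (S : Finset ι) (V : ι → X.Opens) (hV : ∀ i, IsClosed (V i : Set X))
    (hdisj : ∀ i ∈ S, ∀ j ∈ S, i ≠ j → ∀ y, y ∈ V i → y ∉ V j) {M : X.Modules} (hM : Coh.IsCoh M) (hd : DimLE d M)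
    (hsupp : ∀ y, (∀ i ∈ S, y ∉ V i) → Subsingleton (M.presheaf.stalk y)) {pM : ℚ[X]} (hp : HP k L M pM)
    (q : ι → ℚ[X]) (hq : ∀ i ∈ S, HP k L (part (V i) M) (q i)) : pM = ∑ i ∈ S, q i := by
  haveI := EulerIneqLib.isNoetherian_proper (X := X) k
  induction S using Finset.induction_on generalizing M pM with
  | empty =>
    rw [Finset.sum_empty]
    refine hp_unique k hp fun m => ?_
    rw [eval_zero]
    exact HilbLib.chi_isZero k hamp.1
      (isZero_of_support_empty (Set.eq_empty_iff_forall_notMem.2 fun y hy => hy (hsupp y (by simp)))) m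
  | insert i S hi ih =>
    haveI := hM.1
    haveI := epi_res (hV i) M
    have hse : (ShortComplex.mk (kernel.ι (res (V i) M)) (res (V i) M) (kernel.condition _)).ShortExact :=
      ShortComplex.ShortExact.mk' (ShortComplex.exact_of_f_is_kernel _ (kernelIsKernel _)) inferInstance ‹Epi _›
    have hQ := isCoh_part (hV i) hM
    have hK : Coh.IsCoh (kernel (res (V i) M)) := (QCohLib.isCoh_kernel_cokernel _ hM hQ).1
    have hdK : DimLE d (kernel (res (V i) M)) := dimLE_of_mono hd (kernel.ι _)
    obtain ⟨pK, -, hpK⟩ := exists_hp k hamp hK hdK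
    have hkb : ∀ y, y ∉ V i → Function.Bijective (stalkLin (kernel.ι (res (V i) M)) y) := fun y hy => by
      refine ⟨(mono_iff_stalk _).1 inferInstance y, fun z => ?_⟩
      haveI := subsingleton_part (hV i) M hy
      exact (exact_stalkLin (ShortComplex.mk (kernel.ι (res (V i) M)) (res (V i) M) (kernel.condition _)) hse.exact y z).1
        (Subsingleton.elim _ _)
    have hrest : ∀ j ∈ S, HP k L (part (V j) (kernel (res (V i) M))) (q j) := fun j hj => by
      have hne : j ≠ i := fun h => hi (h ▸ hj)
      haveI := isIso_partMap (hV j) (kernel.ι (res (V i) M)) fun y hy =>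
        hkb y (hdisj j (Finset.mem_insert_of_mem hj) i (Finset.mem_insert_self i S) hne y hy)
      exact hp_iso k (asIso (partMap (V j) (kernel.ι (res (V i) M)))).symm (hq j (Finset.mem_insert_of_mem hj))
    have hKsupp : ∀ y, (∀ j ∈ S, y ∉ V j) → Subsingleton ((kernel (res (V i) M)).presheaf.stalk y) := fun y hy => by
      by_cases hyi : y ∈ V i
      · refine ⟨fun a b => (mono_iff_stalk (kernel.ι (res (V i) M))).1 inferInstance y
          ((bijective_res (V i) M hyi).1 ?_)⟩
        rw [← LinearMap.comp_apply, ← stalkLin_comp, kernel.condition, ← LinearMap.comp_apply, ← stalkLin_comp,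
          kernel.condition, (eq_zero_iff_stalk _).1 rfl y]
        rfl
      · haveI := hsupp y fun j hj => (Finset.mem_insert.1 hj).elim (fun h => h ▸ hyi) (hy j)
        exact (mono_iff_stalk (kernel.ι (res (V i) M))).1 inferInstance y |>.subsingleton
    rw [Finset.sum_insert hi, hp_add k hamp hse hK hM hQ hpK hp (hq i (Finset.mem_insert_self i S)),
      ih (fun a ha b hb => hdisj a (Finset.mem_insert_of_mem ha) b (Finset.mem_insert_of_mem hb)) hK hdK hKsupp hpK hrest,
      add_comm]

include hamp in
/-- For dimension at most one the Hilbert polynomial is read off from two Euler characteristics. -/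
theorem coeffs_of_euler {M : X.Modules} (hM : Coh.IsCoh M) (hd : DimLE 1 M) {P : ℚ[X]} (hP : HP k L M P) :
    P = Polynomial.C ((Curv2.euler k X (CohB1.tensorMod M L) : ℚ) - Curv2.euler k X M) * Polynomial.X +
        Polynomial.C (Curv2.euler k X M : ℚ) ∧
      alpha 1 P = (Curv2.euler k X (CohB1.tensorMod M L) : ℚ) - Curv2.euler k X M := by
  have hlin := Polynomial.eq_X_add_C_of_degree_le_one (p := P) (by
    have h := degree_lt k hamp hM hd hP
    rw [Polynomial.degree_le_iff_coeff_zero]
    rw [Polynomial.degree_lt_iff_coeff_zero] at h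
    intro m hm
    exact h m (by exact_mod_cast hm))
  have h0 : (Curv2.euler k X M : ℚ) = P.coeff 0 := by
    have e0 : ShStab.twist X L M 0 ≅ M := AmpleLib.unitR M
    have := hP 0
    rw [CurveLib.euler_iso (K := k) e0, hlin] at this
    simpa using this
  have h1 : (Curv2.euler k X (CohB1.tensorMod M L) : ℚ) = P.coeff 1 + P.coeff 0 := by
    have e1 : ShStab.twist X L M 1 ≅ CohB1.tensorMod M L := AmpleLib.tIso (Iso.refl M) (CurveLib.tmodUnit L)
    have := hP 1
    rw [CurveLib.euler_iso (K := k) e1, hlin] at this
    simpa using this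
  refine ⟨?_, ?_⟩
  · rw [h1, h0, add_sub_cancel_right]
    exact hlin
  · rw [h1, h0, add_sub_cancel_right, alpha]
    simp

end Groth.Agent.CompSplitLib
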