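import Groth.Agent.CompSplitLib.Basic
import Groth.Agent.VBLib.DualDeg
import Groth.Agent.IntLib.Push
import Groth.Agent.CurveP1Lib.SimplyConnected
import Groth.Agent.VBLib.HomPair

/-!
# Riemann–Roch on one component of a smooth curve
-/

set_option autoImplicit false
set_option backward.isDefEq.respectTransparency false
set_option backward.isDefEq.respectTransparency.types false
set_option linter.style.haveILetI false
set_option maxHeartbeats 1600000

universe u

open CategoryTheory CategoryTheory.Limits AlgebraicGeometry TopologicalSpace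
open Groth.Agent.DCohLib

noncomputable section

namespace Groth.Agent.CompSplitLib

attribute [local instance 10] specializationOrder

theorem le_zero_of_lt_one {x : WithBot ℕ∞} (h : x < 1) : x ≤ 0 := by
  induction x with
  | bot => exact bot_le
  | coe a =>
    have : a < 1 := by exact_mod_cast h
    exact_mod_cast (le_of_eq (ENat.lt_one_iff_eq_zero.1 this))

section Curve

variable (k : Type u) [Field k] {X : Scheme.{u}} [X.Over (Spec (CommRingCat.of k))]
  [IsProper (X ↘ Spec (CommRingCat.of k))] [IsIntegral X]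

/-- `χ(E ⊗ L) = χ(E) + n deg L`. -/
theorem euler_twist (hd : topologicalKrullDim X ≤ 1) {E L : X.Modules} {n : ℕ} (hE : FlatMod.IsFinLocFreeOfRank n E)
    (hL : PicF.IsInvertible L) :
    Curv2.euler k X (CohB1.tensorMod E L) = Curv2.euler k X E + n * Curv2.deg k X L 1 :=
  (CurveLib.euler_iso (K := k) (show CohB1.tensorMod E L ≅ DCohLib.tmod E L from Iso.refl _)).trans
    (CurveLib.euler_tensor_invertible (k := k) hd hE hL)

/-- `χ(A ⊗ B) = a χ(B) + b χ(A) - a b χ(O)`. -/
theorem euler_tensor [IsNoetherian X] [VBLib.IsRegCurve X] [IsAlgClosed k] (hd : topologicalKrullDim X = 1)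
    {A B : X.Modules} {a b : ℕ} (hA : FlatMod.IsFinLocFreeOfRank a A) (hB : FlatMod.IsFinLocFreeOfRank b B) :
    Curv2.euler k X (CohB1.tensorMod A B) = a * Curv2.euler k X B + b * Curv2.euler k X A
      - a * b * Curv2.euler k X (Coh.structureModule X) := by
  have h := VBLib.DualDeg.deg_tensor k hd hA hB
  have he := CurveLib.euler_iso (K := k) (show CohB1.tensorMod A B ≅ DCohLib.tmod A B from Iso.refl _)
  unfold Curv2.deg at h
  push_cast at h
  linarith

theorem rank_tensorMod [IsLocallyNoetherian X] {A B : X.Modules} {a b : ℕ} (hA : FlatMod.IsFinLocFreeOfRank a A)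
    (hB : FlatMod.IsFinLocFreeOfRank b B) : FlatMod.IsFinLocFreeOfRank (a * b) (CohB1.tensorMod A B) :=
  VBLib.HomPair.rank_tensor hA hB

end Curve

variable (k : Type u) [Field k] {Y : Scheme.{u}} [Y.Over (Spec (CommRingCat.of k))]
  [IsProper (Y ↘ Spec (CommRingCat.of k))]

variable {U : Y.Opens} (hU : IsClosed (U : Set Y))

include hU in
theorem isProper_part : IsProper ((↑U : Scheme.{u}) ↘ Spec (CommRingCat.of k)) := by
  haveI := isClosedImmersion_ι hU
  exact inferInstanceAs (IsProper (U.ι ≫ (Y ↘ Spec (CommRingCat.of k))))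

include hU in
/-- The Euler characteristic of the part on `U` is computed on `U`. -/
theorem euler_part {M : Y.Modules} (hM : Coh.IsCoh M) :
    Curv2.euler k Y (part U M) = Curv2.euler k (↑U : Scheme.{u}) (M.restrict U.ι) := by
  haveI := EulerIneqLib.isNoetherian_proper (X := Y) k
  haveI := isClosedImmersion_ι hU
  haveI : Coh.IsQCoh (M.restrict U.ι) := (ProjBundleLib.isCoh_restrict_open hM.1 hM.2 U).1
  exact IntLib.euler_push k U.ι rfl _

include hU in
/-- The same after a twist. -/
theorem euler_part_twist {M L : Y.Modules} (hM : Coh.IsCoh M) (hL : PicF.IsInvertible L) :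
    Curv2.euler k Y (CohB1.tensorMod (part U M) L) =
      Curv2.euler k (↑U : Scheme.{u}) (CohB1.tensorMod (M.restrict U.ι) (L.restrict U.ι)) := by
  haveI := EulerIneqLib.isNoetherian_proper (X := Y) k
  haveI := isClosedImmersion_ι hU
  haveI := isProper_part k hU
  exact (IntLib.euler_push_tensor k (i := U.ι) rfl (ProjBundleLib.isCoh_restrict_open hM.1 hM.2 U) hL).trans
    (CurveLib.euler_iso (K := k) (AmpleLib.tIso (Iso.refl _) (AmpleLib.restrictIso U.ι L).symm))

variable [Smooth (Y ↘ Spec (CommRingCat.of k))] (hdim : topologicalKrullDim Y = 1)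
  (hpure : ∀ y : Y, ¬ IsOpen ({y} : Set Y)) (hconn : _root_.IsConnected (U : Set Y))

include k hU hdim hpure hconn in
/-- A component is an integral regular proper curve. -/
theorem comp_curve : IsIntegral (↑U : Scheme.{u}) ∧ AlgebraicGeometry.IsNoetherian (↑U : Scheme.{u}) ∧
    topologicalKrullDim (↑U : Scheme.{u}) = 1 ∧ VBLib.IsRegCurve (↑U : Scheme.{u}) := by
  haveI := isProper_part k hU
  haveI : Smooth ((↑U : Scheme.{u}) ↘ Spec (CommRingCat.of k)) :=
    inferInstanceAs (Smooth (U.ι ≫ (Y ↘ Spec (CommRingCat.of k))))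
  haveI : ConnectedSpace (↑U : Scheme.{u}) := Subtype.connectedSpace hconn
  haveI := CurveLib.isIntegral_of_smooth (X := (↑U : Scheme.{u})) k
  have hle : topologicalKrullDim (↑U : Scheme.{u}) ≤ 1 :=
    U.ι.isOpenEmbedding.isEmbedding.isInducing.topologicalKrullDim_le.trans hdim.le
  refine ⟨inferInstance, EulerIneqLib.isNoetherian_proper k, le_antisymm hle ?_,
    VBLib.isRegCurve_of_smooth k hle⟩
  by_contra hlt
  let η := genericPoint (↑U : Scheme.{u})
  have h0 : topologicalKrullDim (↑U : Scheme.{u}) ≤ 0 := by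
    exact le_zero_of_lt_one (not_le.1 hlt)
  rw [ASp.topologicalKrullDim_eq_krullDim, Order.krullDim_nonpos_iff_forall_isMax] at h0
  have hall : ∀ x : (↑U : Scheme.{u}), x = η := fun x => by
    have hle : x ≤ η := genericPoint_specializes x
    exact le_antisymm hle (h0 x hle)
  refine hpure η.1 ?_
  have hU1 : ({η.1} : Set Y) = (U : Set Y) := Set.eq_of_subset_of_subset (Set.singleton_subset_iff.2 η.2)
    fun y hy => congrArg Subtype.val (hall ⟨y, hy⟩)
  rw [hU1]
  exact U.2

variable [IsAlgClosed k]

include hU hdim hpure hconn in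
/-- Riemann–Roch on a component: twisting by an invertible module. -/
theorem part_rr {M L : Y.Modules} {n : ℕ} (hM : FlatMod.IsFinLocFree M)
    (hMn : FlatMod.IsFinLocFreeOfRank n (M.restrict U.ι)) (hL : PicF.IsInvertible L) :
    Curv2.euler k Y (CohB1.tensorMod (part U M) L) - Curv2.euler k Y (part U M) =
      n * Curv2.deg k (↑U : Scheme.{u}) (L.restrict U.ι) 1 := by
  haveI := EulerIneqLib.isNoetherian_proper (X := Y) k
  haveI := isProper_part k hU
  obtain ⟨_, _, hd, _⟩ := comp_curve k hU hdim hpure hconn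
  rw [euler_part_twist k hU (CurveLib.isCoh_of_isFinLocFree hM) hL, euler_part k hU (CurveLib.isCoh_of_isFinLocFree hM),
    euler_twist k hd.le hMn (ParaFLib.isInvertible_restrict U.ι hL)]
  ring

include hU hdim hpure hconn in
/-- Riemann–Roch on a component: the tensor product of two locally free modules. -/
theorem part_tensor {E F L : Y.Modules} {a b : ℕ} (hE : FlatMod.IsFinLocFree E) (hF : FlatMod.IsFinLocFree F)
    (hL : PicF.IsInvertible L) (ha : FlatMod.IsFinLocFreeOfRank a (E.restrict U.ι))
    (hb : FlatMod.IsFinLocFreeOfRank b (F.restrict U.ι)) :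
    Curv2.euler k Y (part U (CohB1.tensorMod E F)) =
        a * Curv2.euler k Y (part U F) + b * Curv2.euler k Y (part U E)
          - a * b * Curv2.euler k Y (part U (Coh.structureModule Y)) ∧
      Curv2.euler k Y (CohB1.tensorMod (part U (CohB1.tensorMod E F)) L) - Curv2.euler k Y (part U (CohB1.tensorMod E F)) =
        a * b * Curv2.deg k (↑U : Scheme.{u}) (L.restrict U.ι) 1 := by
  haveI := EulerIneqLib.isNoetherian_proper (X := Y) k
  haveI := isProper_part k hU
  obtain ⟨_, _, hd, _⟩ := comp_curve k hU hdim hpure hconn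
  have hEc := CurveLib.isCoh_of_isFinLocFree hE
  have hFc := CurveLib.isCoh_of_isFinLocFree hF
  have hEFc : Coh.IsCoh (CohB1.tensorMod E F) := CurveLib.isCoh_tmod hEc hFc
  have he := CurveLib.euler_iso (K := k) (AmpleLib.restrictTensor U.ι E F)
  constructor
  · rw [euler_part k hU hEFc, euler_part k hU hEc, euler_part k hU hFc,
      euler_part k hU (DevLib.isCoh_structureModule Y), he, euler_tensor k hd ha hb,
      CurveLib.euler_iso (K := k) (DCohLib.restrictUnit U.ι)]
  · rw [euler_part_twist k hU hEFc hL, euler_part k hU hEFc, he,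
      CurveLib.euler_iso (K := k) (AmpleLib.tIso (AmpleLib.restrictTensor U.ι E F) (Iso.refl (L.restrict U.ι))),
      euler_twist k hd.le (rank_tensorMod ha hb) (ParaFLib.isInvertible_restrict U.ι hL)]
    push_cast
    ring

include hconn in
omit [IsAlgClosed k] [Smooth (Y ↘ Spec (CommRingCat.of k))] in
/-- A locally free module with non-zero stalks has positive rank on a component. -/
theorem exists_rank {E : Y.Modules} (hE : FlatMod.IsFinLocFree E)
    (h0 : ∀ y : Y, ¬ Subsingleton (E.presheaf.stalk y)) :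
    ∃ a : ℕ, 0 < a ∧ FlatMod.IsFinLocFreeOfRank a (E.restrict U.ι) := by
  haveI : ConnectedSpace (↑U : Scheme.{u}) := Subtype.connectedSpace hconn
  obtain ⟨a, ha⟩ := CurveP1Lib.exists_rank (DCohLib.isFinLocFree_restrict U.ι hE)
  refine ⟨a, Nat.pos_of_ne_zero fun h => ?_, ha⟩
  subst h
  obtain ⟨y, hy⟩ := hconn.nonempty
  obtain ⟨e⟩ := CurveLib.freeAt_of_isFinLocFreeOfRank ha ⟨y, hy⟩
  haveI : Subsingleton ((E.restrict U.ι).presheaf.stalk ⟨y, hy⟩) := e.toEquiv.subsingleton
  exact h0 y (((Scheme.Modules.restrictStalkNatIso U.ι (⟨y, hy⟩ : (U : Scheme.{u}))).app E).addCommGroupIsoToAddEquiv.toEquiv.subsingleton_congr.1 ‹_›)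

include hU hdim hpure hconn in
/-- The degree of an invertible module on a component. -/
theorem part_deg {L : Y.Modules} (hL : PicF.IsInvertible L) :
    Curv2.euler k Y (part U L) - Curv2.euler k Y (part U (Coh.structureModule Y)) =
      Curv2.deg k (↑U : Scheme.{u}) (L.restrict U.ι) 1 := by
  haveI := isProper_part k hU
  haveI := EulerIneqLib.isNoetherian_proper (X := Y) k
  rw [euler_part k hU (CurveLib.isCoh_of_isInvertible hL), euler_part k hU (DevLib.isCoh_structureModule Y),
    CurveLib.euler_iso (K := k) (DCohLib.restrictUnit U.ι)]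
  unfold Curv2.deg
  simp

omit [Smooth (Y ↘ Spec (CommRingCat.of k))] [IsAlgClosed k] in
include k in
/-- The opens given by the connected components. -/
theorem exists_components : ∃ (ι : Type u) (_ : Fintype ι) (V : ι → Y.Opens),
    (∀ i, IsClosed (V i : Set Y)) ∧ (∀ i, _root_.IsConnected (V i : Set Y)) ∧ (∀ y, ∃ i, y ∈ V i) ∧
      ∀ i j, i ≠ j → ∀ y, y ∈ V i → y ∉ V j := by
  haveI := EulerIneqLib.isNoetherian_proper (X := Y) k
  haveI := DeltaBC.finite_connectedComponents (T := Y)
  refine ⟨_root_.ConnectedComponents Y, Fintype.ofFinite _, fun c =>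
    ⟨(ConnectedComponents.mk : Y → _) ⁻¹' {c}, ((isClopen_discrete _).preimage ConnectedComponents.continuous_coe).2⟩,
    fun c => ((isClopen_discrete ({c} : Set (_root_.ConnectedComponents Y))).preimage ConnectedComponents.continuous_coe).1,
    fun c => ?_, fun y => ⟨ConnectedComponents.mk y, rfl⟩, fun i j hne y h h' => hne (Eq.trans (Eq.symm h) h')⟩
  obtain ⟨y, rfl⟩ := ConnectedComponents.surjective_coe c
  show _root_.IsConnected ((ConnectedComponents.mk : Y → _) ⁻¹' {ConnectedComponents.mk y})
  rw [connectedComponents_preimage_singleton]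
  exact isConnected_connectedComponent

omit [Smooth (Y ↘ Spec (CommRingCat.of k))] [IsAlgClosed k] in
include hdim in
/-- Euler characteristics add up over the components. -/
theorem euler_split {ι : Type*} [Fintype ι] (V : ι → Y.Opens) (hV : ∀ i, IsClosed (V i : Set Y))
    (hcov : ∀ y, ∃ i, y ∈ V i) (hdisj : ∀ i j, i ≠ j → ∀ y, y ∈ V i → y ∉ V j)
    {L : Y.Modules} (hL : CohB1.IsAmple L) {M : Y.Modules} (hM : Coh.IsCoh M) :
    Curv2.euler k Y M = ∑ i, Curv2.euler k Y (part (V i) M) ∧
      Curv2.euler k Y (CohB1.tensorMod M L) - Curv2.euler k Y M =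
        ∑ i, (Curv2.euler k Y (CohB1.tensorMod (part (V i) M) L) - Curv2.euler k Y (part (V i) M)) := by
  classical
  haveI := EulerIneqLib.isNoetherian_proper (X := Y) k
  have hd : ∀ M : Y.Modules, ShStabLib.DimLE 1 M := fun M => lt_of_le_of_lt
    ((Topology.IsInducing.subtypeVal (t := CohB1.support M)).topologicalKrullDim_le.trans hdim.le) (by decide)
  obtain ⟨p, -, hp⟩ := ShStabLib.exists_hp k hL hM (hd M)
  choose q hq using fun i => ShStabLib.exists_hp k hL (isCoh_part (hV i) hM) (hd (part (V i) M))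
  have hs := hp_split k hL Finset.univ V hV (fun i _ j _ h => hdisj i j h) hM (hd M)
    (fun y hy => absurd (hcov y) fun ⟨i, hi⟩ => hy i (Finset.mem_univ i) hi) hp q fun i _ => (hq i).2
  obtain ⟨hP, -⟩ := coeffs_of_euler k hL hM (hd M) hp
  have hQ := fun i => (coeffs_of_euler k hL (isCoh_part (hV i) hM) (hd (part (V i) M)) (hq i).2).1
  rw [hP] at hs
  simp only [hQ] at hs
  have h0 := congrArg (fun P => Polynomial.coeff P 0) hs
  have h1 := congrArg (fun P => Polynomial.coeff P 1) hs
  simp only [Polynomial.finsetSum_coeff, Polynomial.coeff_add, Polynomial.coeff_C_mul, Polynomial.coeff_X_zero,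
    Polynomial.coeff_X_one, Polynomial.coeff_C_zero, Polynomial.coeff_C, if_neg one_ne_zero, mul_zero, mul_one, zero_add, add_zero] at h0 h1
  constructor
  · exact_mod_cast h0
  · exact_mod_cast h1

end Groth.Agent.CompSplitLib
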