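import Groth.Agent.CompSplitLib.Curve
import Groth.Agent.GenBCLib.SecLocFree

/-!
# Invertible modules on the components of a smooth curve
-/

set_option autoImplicit false
set_option backward.isDefEq.respectTransparency false
set_option backward.isDefEq.respectTransparency.types false
set_option linter.style.haveILetI false
set_option maxHeartbeats 1600000

universe u

open CategoryTheory CategoryTheory.Limits AlgebraicGeometry TopologicalSpace
open Groth.Agent.PullbackMod Groth.Agent.DCohLib

noncomputable section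

namespace Groth.Agent.CompSplitLib

variable {Y : Scheme.{u}}

/-- A morphism restricts to an isomorphism on `U` if it is bijective on the stalks over `U`. -/
theorem isIso_restrict_of_stalks {U : Y.Opens} {M N : Y.Modules} (f : M ⟶ N)
    (hf : ∀ y ∈ U, Function.Bijective (stalkLin f y)) :
    IsIso ((Scheme.Modules.restrictFunctor U.ι).map f) := (isIso_iff_stalk _).2 fun z => by
  have h1 : IsIso ((Scheme.Modules.toPresheaf _ ⋙ TopCat.Presheaf.stalkFunctor _ (U.ι z)).map f) :=
    (ConcreteCategory.isIso_iff_bijective _).2 (hf _ z.2)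
  have h2 := (NatIso.isIso_map_iff (Scheme.Modules.restrictStalkNatIso U.ι z) f).2 h1
  exact @ConcreteCategory.bijective_of_isIso _ _ _ _ _ _ _ _
    ((Scheme.Modules.toPresheaf _ ⋙ TopCat.Presheaf.stalkFunctor _ z).map
      ((Scheme.Modules.restrictFunctor U.ι).map f)) h2

/-- A module pushed forward from an open, restricted back. -/
theorem nonempty_restrict_push {U : Y.Opens} (N : (↑U : Scheme.{u}).Modules) :
    Nonempty (((Scheme.Modules.pushforward U.ι).obj N).restrict U.ι ≅ N) :=
  ⟨(asIso (Scheme.Modules.restrictAdjunction U.ι).counit).app N⟩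

theorem stalkLin_add' {M N : Y.Modules} (a b : M ⟶ N) (y : Y) :
    stalkLin (a + b) y = stalkLin a y + stalkLin b y := by
  refine LinearMap.ext fun z => ?_
  obtain ⟨W, hW, s, rfl⟩ := TopCat.Presheaf.exists_germ_eq M.presheaf z
  rw [LinearMap.add_apply, stalkLin_germ, stalkLin_germ, stalkLin_germ, ← map_add]
  rfl

theorem stalkLin_sum {M N : Y.Modules} {ι : Type*} (s : Finset ι) (f : ι → (M ⟶ N)) (y : Y)
    (z : M.presheaf.stalk y) : stalkLin (∑ i ∈ s, f i) y z = ∑ i ∈ s, stalkLin (f i) y z := by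
  classical
  induction s using Finset.induction_on with
  | empty => rw [Finset.sum_empty, Finset.sum_empty, (eq_zero_iff_stalk _).1 rfl y]; rfl
  | insert i s hi ih => rw [Finset.sum_insert hi, Finset.sum_insert hi, stalkLin_add', LinearMap.add_apply, ih]

/-- Gluing modules given on disjoint open and closed pieces. -/
theorem exists_glue {ι : Type} [Fintype ι] (V : ι → Y.Opens) (hV : ∀ i, IsClosed (V i : Set Y))
    (hdisj : ∀ i j, i ≠ j → ∀ y, y ∈ V i → y ∉ V j) (N : ∀ i, (↑(V i) : Scheme.{u}).Modules) :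
    ∃ E : Y.Modules, ∀ i, Nonempty (E.restrict (V i).ι ≅ N i) := by
  classical
  let P : ι → Y.Modules := fun i => (Scheme.Modules.pushforward (V i).ι).obj (N i)
  refine ⟨⨁ P, fun i => ?_⟩
  have hb : ∀ y ∈ V i, Function.Bijective (stalkLin (biproduct.ι P i) y) := fun y hy => by
    refine ⟨(mono_iff_stalk _).1 inferInstance y, fun z => ⟨stalkLin (biproduct.π P i) y z, ?_⟩⟩
    have htot0 : ∑ j, biproduct.π P j ≫ biproduct.ι P j = 𝟙 (⨁ P) := biproduct.total
    have htot := congrArg (fun g : ⨁ P ⟶ ⨁ P => stalkLin g y z) htot0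
    simp only [stalkLin_sum, stalkLin_id] at htot
    rw [Finset.sum_eq_single i] at htot
    · rw [stalkLin_comp] at htot
      simpa using htot
    · intro j _ hj
      haveI := isClosedImmersion_ι (hV j)
      haveI : Subsingleton ((P j).presheaf.stalk y) := subsingleton_stalk_pushforward (V j).ι _ y
        (by rw [Scheme.Opens.range_ι]; exact hdisj i j hj.symm y hy)
      rw [stalkLin_comp, LinearMap.comp_apply, Subsingleton.elim (stalkLin (biproduct.π P j) y z) 0, map_zero]
    · exact fun h => absurd (Finset.mem_univ i) h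
  haveI := isIso_restrict_of_stalks (U := V i) (biproduct.ι P i) hb
  obtain ⟨e⟩ := nonempty_restrict_push (N i)
  exact ⟨(asIso ((Scheme.Modules.restrictFunctor (V i).ι).map (biproduct.ι P i))).symm ≪≫ e⟩

variable (k : Type u) [Field k] [IsAlgClosed k] [Y.Over (Spec (CommRingCat.of k))]
  [IsProper (Y ↘ Spec (CommRingCat.of k))] [Smooth (Y ↘ Spec (CommRingCat.of k))]
  (hdim : topologicalKrullDim Y = 1) (hpure : ∀ y : Y, ¬ IsOpen ({y} : Set Y))
  {L : Y.Modules} (hL : CohB1.IsAmple L)
  {U : Y.Opens} (hU : IsClosed (U : Set Y)) (hconn : _root_.IsConnected (U : Set Y))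

include hU hdim hpure hconn in
/-- A component carries an invertible module of every non-positive degree. -/
theorem exists_invertible_deg (n : ℕ) : ∃ N : (↑U : Scheme.{u}).Modules, PicF.IsInvertible N ∧
    Curv2.deg k (↑U : Scheme.{u}) N 1 = -(n : ℤ) := by
  haveI := isProper_part k hU
  obtain ⟨_, _, hd, _⟩ := comp_curve k hU hdim hpure hconn
  obtain ⟨P, _, _, hP, hdeg⟩ := VBLib.exists_point_sub k (X := (↑U : Scheme.{u})) hd
  refine ⟨_, AmpleLib.isInvertible_tensorPow hP n, ?_⟩
  rw [CurveLib.deg_tensorPow (k := k) hd.le hP n, hdeg, mul_neg, mul_one]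

include k hU hdim hpure hconn hL in
/-- The part on a component of a module invertible there is semistable, of positive multiplicity. -/
theorem isSemistable_part_line {M : Y.Modules} (hM : FlatMod.IsFinLocFree M)
    (hMU : PicF.IsInvertible (M.restrict U.ι)) :
    ShStab.IsSemistable k Y L (part U M) 1 ∧ 0 < Curv2.deg k (↑U : Scheme.{u}) (L.restrict U.ι) 1 := by
  haveI := EulerIneqLib.isNoetherian_proper (X := Y) k
  haveI := isProper_part k hU
  obtain ⟨_, _, hd, _⟩ := comp_curve k hU hdim hpure hconn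
  have hMr := CurveLib.isFinLocFreeOfRank_one hMU
  have hMc := CurveLib.isCoh_of_isFinLocFree hM
  have hPc := isCoh_part hU hMc
  have hdl : ∀ M : Y.Modules, ShStabLib.DimLE 1 M := fun M => lt_of_le_of_lt
    ((Topology.IsInducing.subtypeVal (t := CohB1.support M)).topologicalKrullDim_le.trans hdim.le) (by decide)
  have sub : ∀ (F : Y.Modules) (i : F ⟶ part U M), Mono i → Coh.IsCoh F → ¬ IsZero F →
      IsIso (res U F) ∧ FlatMod.IsFinLocFreeOfRank 1 (F.restrict U.ι) ∧
      Curv2.euler k (↑U : Scheme.{u}) (F.restrict U.ι) ≤ Curv2.euler k (↑U : Scheme.{u}) (M.restrict U.ι) ∧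
      topologicalKrullDim (CohB1.support F) = ((1 : ℕ) : WithBot ℕ∞) := fun F i hi hF hF0 => by
    haveI := hi
    have hout : ∀ y, y ∉ U → Subsingleton (F.presheaf.stalk y) := fun y hy => by
      haveI := subsingleton_part hU M hy
      exact ((mono_iff_stalk i).1 inferInstance y).subsingleton
    haveI hiso : IsIso (res U F) := (isIso_iff_stalk _).2 fun y => by
      by_cases hy : y ∈ U
      · exact bijective_res U F hy
      · haveI := hout y hy
        haveI := subsingleton_part hU F hy
        exact ⟨fun _ _ _ => Subsingleton.elim _ _, fun _ => ⟨0, Subsingleton.elim _ _⟩⟩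
    haveI : Mono ((Scheme.Modules.restrictFunctor U.ι).map i) := inferInstance
    obtain ⟨e⟩ := nonempty_restrict_push (M.restrict U.ι)
    let j : F.restrict U.ι ⟶ M.restrict U.ι := (Scheme.Modules.restrictFunctor U.ι).map i ≫ e.hom
    haveI : Mono j := mono_comp _ _
    have hFc := ProjBundleLib.isCoh_restrict_open hF.1 hF.2 U
    have hFU : ¬ IsZero (F.restrict U.ι) := fun hz =>
      hF0 (IsZero.of_iso ((Scheme.Modules.pushforward U.ι).map_isZero hz) (asIso (res U F)))
    have hne : VBLib.grk (F.restrict U.ι) ≠ 0 := fun h => hFU (VBLib.isZero_of_mono j hFc hMr h)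
    have hMUc := VBLib.isCoh_of_rank hMr
    obtain ⟨hQ, hrk, hdg⟩ := VBLib.coker_add k j hFc hMUc
    rw [VBLib.grk_of_rank hMr] at hrk
    have hFr : VBLib.grk (F.restrict U.ι) = 1 := by omega
    have hFl := VBLib.rank_of_mono j hFc hMr
    rw [hFr] at hFl
    refine ⟨hiso, hFl, ?_, ?_⟩
    · have h := (VBLib.dg_le_of_mono k hd.le j hFc hMUc (by rw [hFr, VBLib.grk_of_rank hMr])).1
      rw [VBLib.dg_eq k hFl, VBLib.dg_eq k hMr] at h
      unfold Curv2.deg at h
      linarith
    · refine le_antisymm ((Topology.IsInducing.subtypeVal (t := CohB1.support F)).topologicalKrullDim_le.trans hdim.le) ?_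
      have hsup : (U : Set Y) ⊆ CohB1.support F := fun y hy => by
        have hη : genericPoint (↑U : Scheme.{u}) ∈ CohB1.support (F.restrict U.ι) := by
          by_contra h
          exact hne ((VBLib.grk_eq_zero_iff hFc).2 h)
        have hy' := (genericPoint_specializes (α := (↑U : Scheme.{u})) ⟨y, hy⟩).mem_closed (DevLib.isClosed_support hFc) hη
        exact fun hs => hy' (((Scheme.Modules.restrictStalkNatIso U.ι (⟨y, hy⟩ : (U : Scheme.{u}))).app F).addCommGroupIsoToAddEquiv.toEquiv.subsingleton_congr.2 hs)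
      refine le_trans (le_of_eq ?_) (Topology.IsEmbedding.inclusion hsup).isInducing.topologicalKrullDim_le
      exact hd.symm
  have hP0 : ¬ IsZero (part U M) := fun hz => by
    obtain ⟨y, hy⟩ := hconn.nonempty
    haveI := not_not.1 (Set.eq_empty_iff_forall_notMem.1 (HilbLib.support_eq_empty_of_isZero hz) y)
    obtain ⟨e⟩ := CurveLib.freeAt_of_isFinLocFreeOfRank hMr ⟨y, hy⟩
    haveI : Subsingleton (M.presheaf.stalk y) := (bijective_res U M hy).1.subsingleton
    haveI : Subsingleton ((M.restrict U.ι).presheaf.stalk ⟨y, hy⟩) :=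
      ((Scheme.Modules.restrictStalkNatIso U.ι (⟨y, hy⟩ : (U : Scheme.{u}))).app M).addCommGroupIsoToAddEquiv.toEquiv.subsingleton_congr.2 ‹_›
    exact (not_subsingleton (Fin 1 → (↑U : Scheme.{u}).presheaf.stalk ⟨y, hy⟩)) e.symm.toEquiv.subsingleton
  have hpure' : ShStab.IsPure Y (part U M) 1 := fun F i hi hF hF0 => (sub F i hi hF hF0).2.2.2
  have hrr := part_rr k hU hdim hpure hconn hM hMr hL.1
  obtain ⟨pP, -, hpP⟩ := ShStabLib.exists_hp k hL hPc (hdl _)
  obtain ⟨eP, eαP⟩ := coeffs_of_euler k hL hPc (hdl _) hpP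
  have hpos := ShStabLib.alpha_pos_of_isPure k hL hPc hP0 hpure' hpP
  rw [eαP] at hpos
  have hδ : 0 < Curv2.deg k (↑U : Scheme.{u}) (L.restrict U.ι) 1 := by
    have h : (0 : ℤ) < Curv2.euler k Y (CohB1.tensorMod (part U M) L) - Curv2.euler k Y (part U M) := by
      exact_mod_cast hpos
    rw [hrr] at h
    simpa using h
  refine ⟨⟨hPc, hP0, hpure', fun F i hi hF hF0 _ pF pP' hpF hpP' => ?_⟩, hδ⟩
  rw [ShStabLib.hp_unique k hpP' hpP]
  obtain ⟨hiso, hFl, hle, -⟩ := sub F i hi hF hF0
  haveI := hiso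
  obtain ⟨eF, eαF⟩ := coeffs_of_euler k hL hF (hdl _) hpF
  have e1 : Curv2.euler k Y F = Curv2.euler k (↑U : Scheme.{u}) (F.restrict U.ι) :=
    (CurveLib.euler_iso (K := k) (asIso (res U F))).trans (euler_part k hU hF)
  have e2 : Curv2.euler k Y (CohB1.tensorMod F L) - Curv2.euler k Y F =
      Curv2.euler k Y (CohB1.tensorMod (part U M) L) - Curv2.euler k Y (part U M) := by
    rw [CurveLib.euler_iso (K := k) (AmpleLib.tIso (asIso (res U F)) (Iso.refl L)), euler_part_twist k hU hF hL.1,
      euler_twist k hd.le hFl (ParaFLib.isInvertible_restrict U.ι hL.1), e1, hrr]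
    ring
  have hαeq : StabCat.alpha 1 pF = StabCat.alpha 1 pP := by
    rw [eαF, eαP]; exact_mod_cast e2
  rw [ShStabLib.redLE_iff, ShStabLib.cr, hαeq, ← smul_sub]
  have hαnn : (0 : ℚ) ≤ StabCat.alpha 1 pP := by rw [eαP]; exact hpos.le
  have e3 : Curv2.euler k Y (part U M) = Curv2.euler k (↑U : Scheme.{u}) (M.restrict U.ι) := euler_part k hU hMc
  have e2' := congrArg (fun z : ℤ => (z : ℚ)) e2
  push_cast at e2'
  have hdiff : pP - pF = Polynomial.C ((Curv2.euler k Y (part U M) : ℚ) - Curv2.euler k Y F) := by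
    rw [eF, eP, e2', add_sub_add_left_eq_sub, ← Polynomial.C_sub]
  rw [hdiff, Polynomial.smul_C, Polynomial.leadingCoeff_C, smul_eq_mul]
  refine mul_nonneg hαnn (sub_nonneg.2 ?_)
  exact_mod_cast (e1.le.trans hle).trans e3.ge

end Groth.Agent.CompSplitLib
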